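/-
helper75: project S4125 (q-Baer groups, Camina–Camina Theorem A).  API file.

`CoreHyp q X V` packages the hypotheses of the *core case* of "Theorem X": a finite perfect
`q'`-group `X` acting faithfully and irreducibly on a finite abelian `q`-group `V` (`q` odd)
such that every orbit has `2`-power size.  The goal of the core case is `Subsingleton X`.
-/
import Mathlib
import Cfsg.Agent.S4126
import Cfsg.Agent.Lib.Helper76.SylowNorm

set_option autoImplicit false

namespace Cfsg.Agent.Lib.Helper75.QBaer

/-- Hypotheses of the core case of Theorem X (finiteness of `X`, `V` is assumed separately). -/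
structure CoreHyp (q : ℕ) (X V : Type*) [Group X] [CommGroup V] [MulDistribMulAction X V] :
    Prop where
  hq : q.Prime
  hq2 : q ≠ 2
  hV : IsPGroup q V
  hX : (Nat.card X).Coprime q
  faithful : ∀ g : X, (∀ v : V, g • v = v) → g = 1
  orb : ∀ v : V, ∃ k : ℕ, Nat.card (MulAction.orbit X v) = 2 ^ k
  irred : ∀ W : Subgroup V, (∀ g : X, ∀ w ∈ W, g • w ∈ W) → W = ⊥ ∨ W = ⊤
  perfect : commutator X = ⊤

/-- The orbit hypothesis of Theorem X for a general prime `p`. -/
def OrbPow (p : ℕ) (X V : Type*) [Group X] [CommGroup V] [MulDistribMulAction X V] : Prop :=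
  ∀ v : V, ∃ k : ℕ, Nat.card (MulAction.orbit X v) = p ^ k

/-- The conclusion of Theorem X: some term of the derived series acts trivially. -/
def SolvMod (X V : Type*) [Group X] [CommGroup V] [MulDistribMulAction X V] : Prop :=
  ∃ n : ℕ, ∀ g ∈ derivedSeries X n, ∀ v : V, g • v = v

variable {q : ℕ} {X V : Type*} [Group X] [CommGroup V] [MulDistribMulAction X V]

theorem CoreHyp.orbPow (h : CoreHyp q X V) : OrbPow 2 X V := h.orb

/-- the index of a stabilizer is a power of `p` under `OrbPow` -/
theorem index_stabilizer_of_orbPow {p : ℕ} (h : OrbPow p X V) (v : V) :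
    ∃ k : ℕ, (MulAction.stabilizer X v).index = p ^ k := by
  obtain ⟨k, hk⟩ := h v
  exact ⟨k, by rw [MulAction.index_stabilizer, ← hk, Nat.card_coe_set_eq]⟩

/-- [C2-gen] `X = P · X_v` for a Sylow `p`-subgroup `P` when the orbit of `v` has `p`-power
size. -/
theorem exists_mul_sylow_stab_gen [Finite X] {p : ℕ} [Fact p.Prime] (h : OrbPow p X V)
    (P : Sylow p X) (v : V) (g : X) : ∃ s ∈ P, ∃ k ∈ MulAction.stabilizer X v, g = s * k := by
  obtain ⟨k, hk⟩ := index_stabilizer_of_orbPow h v
  have hcop : (P : Subgroup X).index.Coprime (MulAction.stabilizer X v).index := by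
    rw [hk]
    exact Nat.Coprime.pow_right _
      ((Nat.Prime.coprime_iff_not_dvd Fact.out).mpr P.not_dvd_index).symm
  exact Cfsg.Agent.S4126.exists_mul_of_coprime_index _ _ hcop g

/-- [C2] `X = S · X_v` for a Sylow `2`-subgroup `S`. -/
theorem exists_mul_sylow_stab [Finite X] (h : CoreHyp q X V) (S : Sylow 2 X) (v : V) (g : X) :
    ∃ s ∈ S, ∃ k ∈ MulAction.stabilizer X v, g = s * k :=
  haveI : Fact (Nat.Prime 2) := ⟨Nat.prime_two⟩
  exists_mul_sylow_stab_gen (p := 2) h.orb S v g

/-- a normal subgroup of order prime to `p` acts trivially when all orbits have `p`-power size -/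
theorem smul_eq_of_normal_coprime [Finite X] {p : ℕ} (h : OrbPow p X V) (N : Subgroup X)
    [N.Normal] (hN : (Nat.card N).Coprime p) (n : X) (hn : n ∈ N) (v : V) : n • v = v := by
  obtain ⟨k, hk⟩ := index_stabilizer_of_orbPow h v
  have h1 : (MulAction.stabilizer X v).relIndex N ∣ p ^ k := by
    rw [← hk]; exact Cfsg.Agent.Lib.Helper76.relIndex_dvd_index_of_normal_right _ N
  have h2 : (MulAction.stabilizer X v).relIndex N ∣ Nat.card N := Subgroup.relIndex_dvd_card _ _
  have h3 : (MulAction.stabilizer X v).relIndex N = 1 :=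
    Nat.eq_one_of_dvd_coprimes (Nat.Coprime.pow_left k hN.symm) h1 h2
  exact MulAction.mem_stabilizer_iff.mp (Subgroup.relIndex_eq_one.mp h3 hn)

/-- [C1] a normal subgroup of odd order is trivial. -/
theorem odd_normal_eq_bot [Finite X] (h : CoreHyp q X V) (N : Subgroup X) [N.Normal]
    (hN : Odd (Nat.card N)) : N = ⊥ := by
  rw [eq_bot_iff]
  intro n hn
  rw [Subgroup.mem_bot]
  exact h.faithful n fun v =>
    smul_eq_of_normal_coprime h.orb N (Nat.coprime_two_right.mpr hN) n hn v

/-- a normal subgroup inherits the orbit hypothesis -/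
theorem orbPow_of_normal [Finite X] {p : ℕ} (hp : p.Prime) (h : OrbPow p X V) (N : Subgroup X)
    [N.Normal] : OrbPow p N V := by
  intro v
  obtain ⟨k, hk⟩ := index_stabilizer_of_orbPow h v
  have h1 : (MulAction.stabilizer X v).relIndex N ∣ p ^ k := by
    rw [← hk]; exact Cfsg.Agent.Lib.Helper76.relIndex_dvd_index_of_normal_right _ N
  obtain ⟨j, -, hj⟩ := (Nat.dvd_prime_pow hp).mp h1
  refine ⟨j, ?_⟩
  have h2 : (MulAction.stabilizer N v).index = (MulAction.stabilizer X v).relIndex N := by
    rw [Subgroup.relIndex]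
    congr 1
  rw [← hj, ← h2, MulAction.index_stabilizer, Nat.card_coe_set_eq]

end Cfsg.Agent.Lib.Helper75.QBaer
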