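/-
helper75: project S4125.  The image of an acting group `X` in `MulAut V`: it acts faithfully, has
the same orbits, its order divides `|X|`, and solvability modulo the kernel (`SolvMod`) can be
checked on it.  Also: a perfect solvable group is trivial.
-/
import Mathlib
import Cfsg.Agent.Lib.Helper75.QBaer.Defs

set_option autoImplicit false

namespace Cfsg.Agent.Lib.Helper75.QBaer

section Image
variable {X V : Type*} [Group X] [CommGroup V] [MulDistribMulAction X V]

/-- the image of `X` in `MulAut V` (same universe as `V`) -/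
abbrev imgAut (X V : Type*) [Group X] [CommGroup V] [MulDistribMulAction X V] :
    Subgroup (MulAut V) := (MulDistribMulAction.toMulAut X V).range

theorem imgAut_smul (g : X) (v : V) :
    ((MulDistribMulAction.toMulAut X V).rangeRestrict g : imgAut X V) • v = g • v := rfl

theorem imgAut_faithful (y : imgAut X V) (hy : ∀ v : V, y • v = v) : y = 1 := by
  apply Subtype.ext
  apply MulEquiv.ext
  intro v
  exact hy v

theorem imgAut_orbit (v : V) : MulAction.orbit (imgAut X V) v = MulAction.orbit X v := by
  ext w
  constructor
  · rintro ⟨⟨_, g, rfl⟩, rfl⟩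
    exact ⟨g, rfl⟩
  · rintro ⟨g, rfl⟩
    exact ⟨(MulDistribMulAction.toMulAut X V).rangeRestrict g, rfl⟩

theorem imgAut_orbPow {p : ℕ} (h : OrbPow p X V) : OrbPow p (imgAut X V) V := by
  intro v
  obtain ⟨k, hk⟩ := h v
  exact ⟨k, by rw [imgAut_orbit]; exact hk⟩

theorem imgAut_card_dvd [Finite X] : Nat.card (imgAut X V) ∣ Nat.card X :=
  Subgroup.card_range_dvd _

/-- solvability modulo the kernel can be checked on the image -/
theorem solvMod_of_imgAut (h : SolvMod (imgAut X V) V) : SolvMod X V := by
  obtain ⟨n, hn⟩ := h
  refine ⟨n, fun g hg v => ?_⟩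
  have h1 : (MulDistribMulAction.toMulAut X V).rangeRestrict g ∈ derivedSeries (imgAut X V) n :=
    map_derivedSeries_le_derivedSeries _ n (Subgroup.mem_map_of_mem _ hg)
  have := hn _ h1 v
  rwa [imgAut_smul] at this

/-- if the action is not faithful, the image is strictly smaller -/
theorem imgAut_card_lt [Finite X] (g : X) (hg : g ≠ 1) (hgv : ∀ v : V, g • v = v) :
    Nat.card (imgAut X V) < Nat.card X := by
  have hker : g ∈ (MulDistribMulAction.toMulAut X V).ker := by
    rw [MonoidHom.mem_ker]
    apply MulEquiv.ext
    intro v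
    exact hgv v
  have hne : (MulDistribMulAction.toMulAut X V).ker ≠ ⊥ := by
    intro hbot
    rw [hbot, Subgroup.mem_bot] at hker
    exact hg hker
  have h1 : 1 < Nat.card (MulDistribMulAction.toMulAut X V).ker := by
    rw [Finite.one_lt_card_iff_nontrivial]
    exact (Subgroup.nontrivial_iff_ne_bot _).mpr hne
  have h2 := Subgroup.card_mul_index (MulDistribMulAction.toMulAut X V).ker
  rw [Subgroup.index_ker] at h2
  have : Finite (imgAut X V) := Finite.of_surjective _ (MulDistribMulAction.toMulAut X V).rangeRestrict_surjective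
  have hpos : 0 < Nat.card (imgAut X V) := Nat.card_pos
  calc Nat.card (imgAut X V) = 1 * Nat.card (imgAut X V) := (one_mul _).symm
    _ < Nat.card (MulDistribMulAction.toMulAut X V).ker * Nat.card (imgAut X V) :=
        Nat.mul_lt_mul_of_pos_right h1 hpos
    _ = Nat.card X := h2

end Image

/-- a perfect solvable group is trivial -/
theorem subsingleton_of_perfect_of_solvable {X : Type*} [Group X] (hp : commutator X = ⊤)
    (hs : Group.IsSolvable X) : Subsingleton X := by
  obtain ⟨n, hn⟩ := hs.solvable
  have key : ∀ k : ℕ, derivedSeries X k = ⊤ := by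
    intro k
    induction k with
    | zero => rfl
    | succ k ih => rw [derivedSeries_succ, ih]; exact hp
  rw [key n] at hn
  refine ⟨fun a b => ?_⟩
  have ha : a ∈ (⊤ : Subgroup X) := Subgroup.mem_top a
  have hb : b ∈ (⊤ : Subgroup X) := Subgroup.mem_top b
  rw [hn, Subgroup.mem_bot] at ha hb
  rw [ha, hb]

end Cfsg.Agent.Lib.Helper75.QBaer
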