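/-
helper75: project S4125.  [CORE]: a finite perfect `q'`-group acting faithfully and irreducibly on a
finite abelian `q`-group (`q` odd) with all orbits of `2`-power size is trivial.
Assembly of the modules [C1]-[C12], [PART], [ARITH] (helpers 36, 51, 66, 76, 84, 88).
-/
import Mathlib
import Cfsg.Agent.Lib.Helper75.QBaer.Defs
import Cfsg.Agent.Lib.Helper75.QBaer.Image
import Cfsg.Agent.Lib.Helper66.QBaerC3
import Cfsg.Agent.Lib.Helper51.QBaerC4
import Cfsg.Agent.Lib.Helper76.QBaerC6A
import Cfsg.Agent.Lib.Helper88.QBaer.C6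
import Cfsg.Agent.Lib.Helper36.QBaer.C7
import Cfsg.Agent.Lib.Helper84.QBaerC8
import Cfsg.Agent.Lib.Helper36.QBaer.C9
import Cfsg.Agent.Lib.Helper88.QBaer.C11
import Cfsg.Agent.Lib.Helper76.QBaerC12
import Cfsg.Agent.Lib.Helper36.QBaer.Arith

set_option autoImplicit false

namespace Cfsg.Agent.Lib.Helper75.QBaer

section Core
variable {q : ℕ} {X V : Type*} [Group X] [Finite X] [CommGroup V] [Finite V]
  [MulDistribMulAction X V]

/-- [CORE] -/
theorem core (h : CoreHyp q X V) : Subsingleton X := by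
  by_contra hns
  rw [not_subsingleton_iff_nontrivial] at hns
  have : Fact (Nat.Prime 2) := ⟨Nat.prime_two⟩
  -- `|X|` is even
  have heven : 2 ∣ Nat.card X := by
    by_contra hodd
    have hodd' : Odd (Nat.card X) := Nat.odd_iff.mpr (Nat.two_dvd_ne_zero.mp hodd)
    have htop : (⊤ : Subgroup X) = ⊥ :=
      odd_normal_eq_bot h ⊤ (by rwa [Subgroup.card_top])
    obtain ⟨x, hx⟩ := exists_ne (1 : X)
    have : x ∈ (⊤ : Subgroup X) := Subgroup.mem_top x
    rw [htop, Subgroup.mem_bot] at this
    exact hx this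
  obtain ⟨S⟩ : Nonempty (Sylow 2 X) := inferInstance
  -- an involution in the centre of `S`
  have hSnt : Nontrivial (S : Subgroup X) := by
    rw [← Finite.one_lt_card_iff_nontrivial]
    have h2 : 2 ∣ Nat.card (S : Subgroup X) := S.dvd_card_of_dvd_card heven
    have hpos : 0 < Nat.card (S : Subgroup X) := Nat.card_pos
    exact lt_of_lt_of_le one_lt_two (Nat.le_of_dvd hpos h2)
  have hZnt : Nontrivial (Subgroup.center (S : Subgroup X)) := S.2.center_nontrivial
  have hZp : IsPGroup 2 (Subgroup.center (S : Subgroup X)) := S.2.to_subgroup _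
  obtain ⟨k, hk⟩ := IsPGroup.iff_card.mp hZp
  have hk0 : k ≠ 0 := by
    intro h0
    rw [h0, pow_zero] at hk
    have := Finite.one_lt_card_iff_nontrivial.mpr hZnt
    omega
  have h2Z : 2 ∣ Nat.card (Subgroup.center (S : Subgroup X)) := by
    rw [hk]; exact dvd_pow_self 2 hk0
  obtain ⟨z', hz'⟩ := exists_prime_orderOf_dvd_card' 2 h2Z
  set z : X := ((z' : (S : Subgroup X)) : X) with hzdef
  have hz : orderOf z = 2 := by
    rw [hzdef, Subgroup.orderOf_coe, Subgroup.orderOf_coe]; exact hz'
  have hzS : z ∈ S := (z' : (S : Subgroup X)).2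
  have hzZ : ∀ s ∈ S, s * z = z * s := by
    intro s hs
    have := Subgroup.mem_center_iff.mp z'.2 ⟨s, hs⟩
    exact congrArg Subtype.val this
  have hzc := Cfsg.Agent.Lib.Helper66.QBaer.mem_center_of_mem_center_sylow h S z hz hzS hzZ
  have hzinv := Cfsg.Agent.Lib.Helper51.QBaer.smul_eq_inv_of_central_involution h z hz hzc
  have huniq := Cfsg.Agent.Lib.Helper88.QBaerC6.involution_unique_of h
    (fun S' z' hz' hz'S hz'Z =>
      Cfsg.Agent.Lib.Helper66.QBaer.mem_center_of_mem_center_sylow h S' z' hz' hz'S hz'Z)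
    (fun S' R hn hc h2 => by
      have := hn
      exact Cfsg.Agent.Lib.Helper76.QBaer.no_normal_four h S' R hc h2) z hz hzc
  obtain ⟨hfree, horbS, hfac⟩ := Cfsg.Agent.Lib.Helper36.QBaer.sylow_free h z hz hzinv huniq S
  -- solvability of `X`
  have hsolv : Group.IsSolvable X := by
    by_cases hST : ∃ g : X, g ∉ S
    · obtain ⟨g, hg⟩ := hST
      have : Fact q.Prime := ⟨h.hq⟩
      obtain ⟨n, hn⟩ := IsPGroup.iff_card.mp h.hV
      have hn0 : 0 < n := by
        rcases Nat.eq_zero_or_pos n with h0 | h0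
        · exfalso
          rw [h0, pow_zero] at hn
          have hsub : Subsingleton V := (Nat.card_eq_one_iff_unique.mp hn).1
          obtain ⟨x, hx⟩ := exists_ne (1 : X)
          exact hx (h.faithful x fun v => Subsingleton.elim _ _)
        · exact h0
      have hge := Cfsg.Agent.Lib.Helper84.QBaer.card_sylow_ge h S n hn0 hn hfree hfac g hg
      have hdvd := Cfsg.Agent.Lib.Helper36.QBaer.card_sylow_dvd (S : Subgroup X) n hn hfree
      obtain ⟨e, he⟩ := IsPGroup.iff_card.mp S.2
      rw [he] at hge hdvd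
      rcases Cfsg.Agent.Lib.Helper36.QBaer.arith q n e h.hq h.hq2 hn0 hge hdvd with h2 | ⟨h3, h4, h5⟩
      · rw [h2] at hn
        exact Cfsg.Agent.Lib.Helper88.QBaerC11.solvable_of_card_sq h S hn
      · subst h3
        rw [h4] at hn
        rw [h5] at he
        exact Cfsg.Agent.Lib.Helper76.QBaer.solvable_of_three_four h S hn he horbS
    · push Not at hST
      have hX2 : IsPGroup 2 X := by
        intro x
        obtain ⟨k, hk⟩ := S.2 ⟨x, hST x⟩
        exact ⟨k, by simpa using congrArg Subtype.val hk⟩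
      have := hX2.isNilpotent
      infer_instance
  have := subsingleton_of_perfect_of_solvable h.perfect hsolv
  exact not_nontrivial X hns

end Core

end Cfsg.Agent.Lib.Helper75.QBaer
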