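/-
helper75: project S4125.  [THMX] modulo the Odd Order Theorem:
a finite `q'`-group `X` acting on a finite abelian `q`-group `V` with all orbits of `p`-power size
(`p ≠ q` primes) is solvable modulo the kernel of the action.
`solvMod_two` is the case `p = 2` (`q` odd), which does not need the Odd Order Theorem.
-/
import Mathlib
import Cfsg.Agent.Lib.Helper75.QBaer.Core
import Cfsg.Agent.Lib.Helper1.QBaerRed
import Cfsg.Agent.Lib.Helper71.QBaerOdd

set_option autoImplicit false

namespace Cfsg.Agent.Lib.Helper75.QBaer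

universe u

/-- [RED] + [CORE]: the case `p = 2`, `q` odd of Theorem X. -/
theorem solvMod_two {X V : Type u} [Group X] [Finite X] [CommGroup V] [Finite V]
    [MulDistribMulAction X V] (q : ℕ) (hq : q.Prime) (hq2 : q ≠ 2) (hV : IsPGroup q V)
    (hX : (Nat.card X).Coprime q) (horb : OrbPow 2 X V) : SolvMod X V :=
  Cfsg.Agent.Lib.Helper1.QBaer.solvMod_two_of' q hq hq2 (fun _ _ _ _ _ _ _ h => core h) hV hX horb

/-- [THMX], with the Odd Order Theorem as a hypothesis. -/
theorem thmX_of
    (hFT : ∀ {Y : Type u} [Group Y] [Finite Y], Odd (Nat.card Y) → Group.IsSolvable Y)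
    {X V : Type u} [Group X] [Finite X] [CommGroup V] [Finite V]
    [MulDistribMulAction X V] (q p : ℕ) (hq : q.Prime) (hp : p.Prime) (hpq : p ≠ q)
    (hV : IsPGroup q V) (hX : (Nat.card X).Coprime q) (horb : OrbPow p X V) :
    SolvMod X V := by
  by_cases h2 : p ≠ 2 ∨ q = 2
  · apply solvMod_of_imgAut
    have hcop : (Nat.card (imgAut X V)).Coprime q :=
      Nat.Coprime.coprime_dvd_left imgAut_card_dvd hX
    have hodd := Cfsg.Agent.Lib.Helper71.QBaer.odd_card_of_odd_prime q p hq hp hpq h2 hV hcop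
      imgAut_faithful (imgAut_orbPow horb)
    obtain ⟨n, hn⟩ := (hFT hodd).solvable
    refine ⟨n, fun g hg v => ?_⟩
    rw [hn, Subgroup.mem_bot] at hg
    rw [hg, one_smul]
  · push Not at h2
    obtain ⟨hp2, hq2⟩ := h2
    subst hp2
    exact solvMod_two q hq hq2 hV hX horb

end Cfsg.Agent.Lib.Helper75.QBaer
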