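/-
helper75: project S4125 (q-Baer groups, Camina–Camina Theorem A).  Top-level assembly, with the
Odd Order Theorem as a hypothesis: `qbaer_of`.
Modules: [U1] helper42, [U2] helper51, [PQ] helper71, [PNQ] helper84, [LASTQ]/[LASTABS] helper1,
[THMX] = `thmX_of` (helper75 + helpers 1, 36, 51, 65, 66, 71, 76, 84, 88).
-/
import Mathlib
import Cfsg.Prelude.Def_Solvable
import Cfsg.Agent.Lib.Helper75.QBaer.ThmXOf
import Cfsg.Agent.Lib.Helper42.QBaerU1
import Cfsg.Agent.Lib.Helper51.QBaerU2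
import Cfsg.Agent.Lib.Helper71.QBaerPQ
import Cfsg.Agent.Lib.Helper84.QBaerPNQ
import Cfsg.Agent.Lib.Helper1.QBaerLastQ
import Cfsg.Agent.Lib.Helper1.PCore
import Cfsg.Agent.Lib.Helper1.Fitting

set_option autoImplicit false

namespace Cfsg.Agent.Lib.Helper75.QBaer

universe u

/-- [UNIQ-P]: one prime serves for all `q`-elements. -/
theorem exists_prime {G : Type*} [Group G] [Finite G] (q : ℕ) [Fact q.Prime]
    (hBaer : ∀ x : G, (∃ k : ℕ, orderOf x = q ^ k) → ∃ (r : ℕ) (a : ℕ), r.Prime ∧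
      (Subgroup.centralizer ({x} : Set G)).index = r ^ a) :
    ∃ p : ℕ, p.Prime ∧ ∀ x : G, (∃ k : ℕ, orderOf x = q ^ k) →
      ∃ a : ℕ, (Subgroup.centralizer ({x} : Set G)).index = p ^ a := by
  by_cases hex : ∃ x : G, (∃ k : ℕ, orderOf x = q ^ k) ∧ ∃ a : ℕ, 0 < a ∧
      (Subgroup.centralizer ({x} : Set G)).index = q ^ a
  · obtain ⟨x, hx, a, ha, hxa⟩ := hex
    exact ⟨q, Fact.out, fun y hy =>
      Cfsg.Agent.Lib.Helper42.QBaerU1.all_q_of_exists_q q hBaer x hx a ha hxa y hy⟩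
  · apply Cfsg.Agent.Lib.Helper51.QBaer.exists_prime_of_no_q q hBaer
    intro x hx a hxa
    by_contra ha
    exact hex ⟨x, hx, a, Nat.pos_of_ne_zero ha, hxa⟩

/-- **S4125 modulo the Odd Order Theorem.** -/
theorem qbaer_of
    (hFT : ∀ {Y : Type u} [Group Y] [Finite Y], Odd (Nat.card Y) → Group.IsSolvable Y)
    {G : Type u} [Group G] [Finite G] (q : ℕ) [Fact q.Prime]
    (hBaer : ∀ x : G, (∃ k : ℕ, orderOf x = q ^ k) → ∃ (r : ℕ) (a : ℕ), r.Prime ∧
      (Subgroup.centralizer ({x} : Set G)).index = r ^ a) (Q : Sylow q G) :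
    (∃ K L : Subgroup G, K.Normal ∧ L.Normal ∧ K ≤ L ∧ (Nat.card K).Coprime q ∧
      (∃ m : ℕ, K.relIndex L = q ^ m) ∧ L.index.Coprime q) ∧
    ∃ p : ℕ, p.Prime ∧ (∀ x : G, (∃ k : ℕ, orderOf x = q ^ k) →
        ∃ a : ℕ, (Subgroup.centralizer ({x} : Set G)).index = p ^ a) ∧
      (p = q → (Q : Subgroup G).Normal ∧
        ∃ N : Subgroup G, N.Normal ∧ N.IsComplement' (Q : Subgroup G)) ∧
      (p ≠ q → IsMulCommutative (Q : Subgroup G) ∧ (Cfsg.pCore p G ⊔ (Q : Subgroup G)).Normal ∧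
        ∀ _h : (Cfsg.pPrimeCore q G).Normal, Group.IsSolvable (G ⧸ Cfsg.pPrimeCore q G)) := by
  obtain ⟨p, hp, hall⟩ := exists_prime q hBaer
  have hB1 : p = q → (Q : Subgroup G).Normal ∧
      ∃ N : Subgroup G, N.Normal ∧ N.IsComplement' (Q : Subgroup G) := by
    intro h
    subst h
    exact Cfsg.Agent.Lib.Helper71.QBaer.direct_factor_of_all_q p hall Q
  have hB2 : p ≠ q → IsMulCommutative (Q : Subgroup G) ∧
      (Cfsg.pCore p G ⊔ (Q : Subgroup G)).Normal ∧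
      ∀ _h : (Cfsg.pPrimeCore q G).Normal, Group.IsSolvable (G ⧸ Cfsg.pPrimeCore q G) := by
    intro hne
    have : Fact p.Prime := ⟨hp⟩
    have hPNQ := Cfsg.Agent.Lib.Helper84.QBaer.abelian_of_all_p q p hne hall Q
    refine ⟨hPNQ.1, hPNQ.2, fun _h => ?_⟩
    exact Cfsg.Agent.Lib.Helper1.QBaer.solvable_quotient_pPrimeCore_of q p hne
      (fun q' p' hq' hp' hpq' hV hX horb => thmX_of hFT q' p' hq' hp' hpq' hV hX horb)
      Q hPNQ hall
  refine ⟨?_, p, hp, hall, hB1, hB2⟩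
  -- part (A)
  set K := Cfsg.pPrimeCore q G with hK
  have hKn : K.Normal := Cfsg.Agent.Lib.Helper1.pPrimeCore_normal q
  have hKQ : (K ⊔ (Q : Subgroup G)).Normal := by
    by_cases h : p = q
    · have := (hB1 h).1
      exact Subgroup.sup_normal _ _
    · have : Fact p.Prime := ⟨hp⟩
      have := (hB2 h).2.1
      have hle : Cfsg.pCore p G ≤ K := by
        apply Cfsg.Agent.Lib.Helper1.le_pPrimeCore (Cfsg.Agent.Lib.Helper1.pCore_normal p)
        obtain ⟨n, hn⟩ := IsPGroup.iff_card.mp (Cfsg.Agent.Lib.Helper1.pCore_isPGroup (G := G) p)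
        rw [hn]
        exact Nat.Coprime.pow_left _ ((Nat.coprime_primes hp Fact.out).mpr h)
      have heq : K ⊔ (Q : Subgroup G) = K ⊔ (Cfsg.pCore p G ⊔ (Q : Subgroup G)) := by
        rw [← sup_assoc, sup_eq_left.mpr hle]
      rw [heq]
      exact Subgroup.sup_normal _ _
  refine ⟨K, K ⊔ (Q : Subgroup G), hKn, hKQ, le_sup_left,
    Cfsg.Agent.Lib.Helper1.pPrimeCore_card_coprime q, ?_, ?_⟩
  · rw [Subgroup.relIndex_sup_left]
    have h1 : K.relIndex (Q : Subgroup G) ∣ Nat.card (Q : Subgroup G) :=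
      Subgroup.relIndex_dvd_card _ _
    obtain ⟨n, hn⟩ := IsPGroup.iff_card.mp Q.2
    rw [hn] at h1
    obtain ⟨m, -, hm⟩ := (Nat.dvd_prime_pow Fact.out).mp h1
    exact ⟨m, hm⟩
  · have h1 : (K ⊔ (Q : Subgroup G)).index ∣ (Q : Subgroup G).index :=
      Subgroup.index_dvd_of_le le_sup_right
    exact Nat.Coprime.coprime_dvd_left h1
      ((Nat.Prime.coprime_iff_not_dvd Fact.out).mpr Q.not_dvd_index).symm

end Cfsg.Agent.Lib.Helper75.QBaer
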